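-- Team project LSF (S5286): package [FIN] (helper32).
import Cfsg.Agent.Lib.Helper67.LSF.Defs

/-!
# [FIN]: finite subgroups of `GG F` are conjugate into the image of `S`

From [TREE] (fixed vertex of a finite group on an invariant convex set of the Cayley tree),
[CONVEX] (the free parts of the elements of `GG F` form a convex set) and [STAB] (elements with
trivial free part lie in `lam S`).
-/

set_option autoImplicit false

namespace Cfsg.Agent.Lib.Helper32.LSF

open Cfsg Cfsg.Agent.Lib.Helper67.LSF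

universe u

theorem pkgFin (tree : PkgTree.{u}) (convex : PkgConvex.{u}) (stab : PkgStab.{u}) :
    PkgFin.{u} := by
  intro Ω _ S F H hfin
  -- the image of `H` in `Ghat F`
  let H' : Subgroup (Ghat F) := H.map (GG F).subtype
  have hfinH : Finite H' := by
    have h1 : ((H' : Set (Ghat F))).Finite := by
      have h0 : (H' : Set (Ghat F)) = (GG F).subtype '' (H : Set (GG F)) :=
        Subgroup.coe_map _ _
      rw [h0]
      exact (Set.toFinite _).image _
    exact h1.to_subtype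
  let V : Set (FreeGroup (X F)) := {v | ∃ g ∈ GG F, g.left = v}
  have hV1 : (1 : FreeGroup (X F)) ∈ V := ⟨1, (GG F).one_mem, rfl⟩
  have hVinv : ∀ h ∈ H', ∀ v ∈ V, h.left * autX (xperm F) h.right v ∈ V := by
    intro h hh v hv
    obtain ⟨k, hk, rfl⟩ := Subgroup.mem_map.mp hh
    obtain ⟨g, hg, rfl⟩ := hv
    exact ⟨(k : Ghat F) * g, (GG F).mul_mem k.2 hg, rfl⟩
  have hVconv : ∀ v ∈ V, ∀ L₁ L₂ : List (X F × Bool), FreeGroup.IsReduced (L₁ ++ L₂) →
      v * FreeGroup.mk (L₁ ++ L₂) ∈ V → v * FreeGroup.mk L₁ ∈ V := by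
    intro v hv L₁ L₂ hred hv2
    exact convex S F v L₁ L₂ hred hv hv2
  obtain ⟨v, ⟨g₀, hg₀, rfl⟩, hfix⟩ := @tree (Equiv.Perm S) _ (X F) (xperm F) H' hfinH V hV1 hVinv hVconv
  refine ⟨⟨g₀, hg₀⟩⁻¹, ?_⟩
  intro h hh
  have hh' : (h : Ghat F) ∈ H' := Subgroup.mem_map.mpr ⟨h, hh, rfl⟩
  have hf := hfix (h : Ghat F) hh'
  have hk : ((g₀⁻¹ * (h : Ghat F) * g₀ : Ghat F)).left = 1 := by
    have h1 : ((h : Ghat F) * g₀).left = g₀.left := by
      rw [SemidirectProduct.mul_left]
      exact hf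
    have h2 : (g₀⁻¹ * g₀ : Ghat F).left = 1 := by
      rw [inv_mul_cancel]
      rfl
    rw [mul_assoc, SemidirectProduct.mul_left, h1]
    rw [SemidirectProduct.mul_left] at h2
    exact h2
  obtain ⟨s, hs⟩ := stab S F (g₀⁻¹ * (h : Ghat F) * g₀)
    ((GG F).mul_mem ((GG F).mul_mem ((GG F).inv_mem hg₀) h.2) hg₀) hk
  refine ⟨s, ?_⟩
  apply Subtype.ext
  rw [iota_coe]
  simp only [Subgroup.coe_mul, Subgroup.coe_inv, inv_inv]
  exact hs.symm

end Cfsg.Agent.Lib.Helper32.LSF
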