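-- Team project LSF (S5286): package [HOM] (helper32).
import Cfsg.Agent.Lib.Helper67.LSF.Defs

/-!
# [HOM]: a conjugation of `Perm S` mapping `lam P` into `lam S` is `lam ∘ ψ`
-/

set_option autoImplicit false

namespace Cfsg.Agent.Lib.Helper32.LSF

open Cfsg Cfsg.Agent.Lib.Helper67.LSF

universe u

theorem lam_injective32 {Ω : Type u} [Group Ω] (S : Subgroup Ω) :
    Function.Injective (lam S) := by
  intro s s' h
  have h3 := congrArg (fun e => e 1) h
  simpa [lam_apply] using h3

theorem pkgHom : PkgHom.{u} := by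
  intro Ω _ S q P hP h
  choose f hf using h
  have hinj := lam_injective32 S
  have hsub : ∀ x y : P, (⟨((x * y : P) : Ω), hP (x * y).2⟩ : S) =
      ⟨x, hP x.2⟩ * ⟨y, hP y.2⟩ := fun x y => rfl
  have h1 : f 1 = 1 := by
    apply hinj
    rw [← hf 1]
    have h0 : (⟨((1 : P) : Ω), hP (1 : P).2⟩ : S) = 1 := rfl
    rw [h0, map_one, mul_one, mul_inv_cancel]
  have hmul : ∀ x y : P, f (x * y) = f x * f y := by
    intro x y
    apply hinj
    rw [map_mul, ← hf x, ← hf y, ← hf (x * y), hsub, map_mul]
    group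
  refine ⟨{ toFun := fun x => (f x : Ω)
            map_one' := by rw [h1]; rfl
            map_mul' := fun x y => by rw [hmul]; rfl }, fun x => (f x).2, fun x => ?_⟩
  exact (hf x).symm

end Cfsg.Agent.Lib.Helper32.LSF
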